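import Mathlib
import Cfsg.Agent.Lib.Forms.Hyp
import Cfsg.Agent.Lib.Classical.SLCard

/-!
Counting lemmas for transitive actions; extension of isometries over an orthogonal decomposition;
invariant totally singular subspaces of `p`-groups.
-/

set_option autoImplicit false

namespace CfsgLib.Elusive

open Module CfsgLib.Forms

section Act

variable {G α : Type*} [Group G]

/-- An action given by a function, restricted to an invariant subset. -/
@[reducible] def subAct (act : G → α → α) (h1 : ∀ a, act 1 a = a)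
    (hmul : ∀ g h a, act (g * h) a = act g (act h a)) (Φ : α → Prop)
    (hΦ : ∀ g a, Φ a → Φ (act g a)) : MulAction G {a // Φ a} where
  smul g a := ⟨act g a.1, hΦ g a.1 a.2⟩
  one_smul a := Subtype.ext (h1 a.1)
  mul_smul g h a := Subtype.ext (hmul g h a.1)

theorem card_mul_dvd {K : Type*} [Group K] [Finite G] (act : G → α → α) (h1 : ∀ a, act 1 a = a)
    (hmul : ∀ g h a, act (g * h) a = act g (act h a)) (Φ : α → Prop)
    (hΦ : ∀ g a, Φ a → Φ (act g a)) (a₀ : α) (h₀ : Φ a₀) (htr : ∀ a, Φ a → ∃ g, act g a₀ = a)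
    (φ : K →* G) (hφ : Function.Injective φ) (hfix : ∀ k, act (φ k) a₀ = a₀) :
    Nat.card {a // Φ a} * Nat.card K ∣ Nat.card G := by
  letI := subAct act h1 hmul Φ hΦ
  have : MulAction.IsPretransitive G {a // Φ a} := by
    refine ⟨fun a b => ?_⟩
    obtain ⟨g, hg⟩ := htr a.1 a.2
    obtain ⟨h, hh⟩ := htr b.1 b.2
    refine ⟨h * g⁻¹, Subtype.ext ?_⟩
    change act (h * g⁻¹) a.1 = b.1
    rw [← hg, ← hmul, inv_mul_cancel_right, hh]
  rw [← MulAction.index_stabilizer_of_transitive G (⟨a₀, h₀⟩ : {a // Φ a}),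
    ← (MulAction.stabilizer G (⟨a₀, h₀⟩ : {a // Φ a})).index_mul_card]
  apply Nat.mul_dvd_mul_left
  rw [Nat.card_congr (MonoidHom.ofInjective hφ).toEquiv]
  apply Subgroup.card_dvd_of_le
  rintro _ ⟨k, rfl⟩
  exact Subtype.ext (hfix k)

theorem card_dvd_of_trans [Finite G] (act : G → α → α) (h1 : ∀ a, act 1 a = a)
    (hmul : ∀ g h a, act (g * h) a = act g (act h a)) (Φ : α → Prop)
    (hΦ : ∀ g a, Φ a → Φ (act g a)) (a₀ : α) (h₀ : Φ a₀) (htr : ∀ a, Φ a → ∃ g, act g a₀ = a) :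
    Nat.card {a // Φ a} ∣ Nat.card G :=
  Dvd.dvd.trans (Dvd.intro _ rfl) (card_mul_dvd (K := Unit) act h1 hmul Φ hΦ a₀ h₀ htr 1
    (fun _ _ _ => rfl) fun _ => h1 _)

theorem not_dvd_card_of_fixed [Finite G] {p : ℕ} [Fact p.Prime] (act : G → α → α)
    (h1 : ∀ a, act 1 a = a) (hmul : ∀ g h a, act (g * h) a = act g (act h a)) (Φ : α → Prop)
    (hΦ : ∀ g a, Φ a → Φ (act g a)) (htr : ∀ a b, Φ a → Φ b → ∃ g, act g a = b)
    (hfix : ∀ P : Subgroup G, IsPGroup p P → ∃ a, Φ a ∧ ∀ g ∈ P, act g a = a) :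
    ¬ p ∣ Nat.card {a // Φ a} := by
  obtain ⟨P⟩ : Nonempty (Sylow p G) := inferInstance
  obtain ⟨a₀, h₀, hP⟩ := hfix P P.isPGroup'
  have := card_mul_dvd act h1 hmul Φ hΦ a₀ h₀ (fun a ha => htr _ _ h₀ ha)
    (P : Subgroup G).subtype (Subgroup.subtype_injective _) fun k => hP k k.2
  rw [← (P : Subgroup G).index_mul_card] at this
  intro h
  exact P.not_dvd_index (h.trans (Nat.dvd_of_mul_dvd_mul_right Nat.card_pos this))

theorem card_dvd_of_free (act : G → α → α) (h1 : ∀ a, act 1 a = a)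
    (hmul : ∀ g h a, act (g * h) a = act g (act h a)) (Φ : α → Prop)
    (hΦ : ∀ g a, Φ a → Φ (act g a)) (hfree : ∀ g a, Φ a → act g a = a → g = 1) :
    Nat.card G ∣ Nat.card {a // Φ a} := by
  letI := subAct act h1 hmul Φ hΦ
  rw [Nat.card_congr (MulAction.selfEquivOrbitsQuotientProd (G := G) (X := {a // Φ a}) fun b => by
    rw [eq_bot_iff]
    intro g hg
    exact hfree g b.1 b.2 (congrArg Subtype.val hg)), Nat.card_prod]
  exact Dvd.intro_left _ rfl

theorem factorial_dvd_card {t : ℕ} (Φ : (Fin t → α) → Prop)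
    (hΦ : ∀ (σ : Equiv.Perm (Fin t)) D, Φ D → Φ (D ∘ σ))
    (hinj : ∀ D, Φ D → Function.Injective D) : t.factorial ∣ Nat.card {D // Φ D} := by
  have := card_dvd_of_free (G := Equiv.Perm (Fin t)) (fun σ (D : Fin t → α) => D ∘ σ.symm)
    (fun _ => rfl) (fun _ _ _ => rfl) Φ (fun σ D h => hΦ σ.symm D h) (fun σ D h h' => by
      have : ∀ i, σ.symm i = i := fun i => hinj D h (congrFun h' i)
      ext i
      rw [← this (σ i)]; simp)
  rwa [Nat.card_eq_fintype_card, Fintype.card_perm, Fintype.card_fin] at this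

theorem two_dvd_card_swap (Φ : α × α → Prop) (hΦ : ∀ a, Φ a → Φ a.swap)
    (hne : ∀ a, Φ a → a.1 ≠ a.2) : 2 ∣ Nat.card {a // Φ a} := by
  have := card_dvd_of_free (G := ℤˣ) (fun u (a : α × α) => if u = 1 then a else a.swap)
    (fun _ => by simp) (fun g h a => by
      rcases Int.units_eq_one_or g with rfl | rfl <;>
        rcases Int.units_eq_one_or h with rfl | rfl <;> simp) Φ
    (fun u a h => by by_cases hu : u = 1 <;> simp [hu, h, hΦ a h])
    (fun u a h h' => by
      by_contra hu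
      simp only [hu, if_false] at h'
      exact hne a h (congrArg Prod.snd h'))
  rwa [Nat.card_eq_fintype_card, Fintype.card_units_int] at this

theorem dvd_of_dvd_div {r N k : ℕ} (hk : k ∣ N) (h : r ∣ N / k) : r ∣ N :=
  h.trans (Nat.div_dvd_of_dvd hk)

theorem exists_fixed_ne {p : ℕ} [Fact p.Prime] (hG : IsPGroup p G) (act : G → α → α)
    (h1 : ∀ a, act 1 a = a) (hmul : ∀ g h a, act (g * h) a = act g (act h a)) (Φ : α → Prop)
    (hΦ : ∀ g a, Φ a → Φ (act g a)) [Finite {a // Φ a}] (hp : p ∣ Nat.card {a // Φ a})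
    (a₀ : α) (h₀ : Φ a₀) (hfix : ∀ g, act g a₀ = a₀) :
    ∃ a, Φ a ∧ a ≠ a₀ ∧ ∀ g, act g a = a := by
  letI := subAct act h1 hmul Φ hΦ
  obtain ⟨b, hb, hne⟩ := hG.exists_fixed_point_of_prime_dvd_card_of_fixed_point {a // Φ a} hp
    (a := ⟨a₀, h₀⟩) fun g => Subtype.ext (hfix g)
  exact ⟨b.1, b.2, fun h => hne (Subtype.ext h.symm), fun g => congrArg Subtype.val (hb g)⟩

end Act

theorem prime_dvd_of_mul_dvd {r q N A B a b : ℕ} (hr : r.Prime) (hq : ¬ r ∣ q) (hA : A ≠ 0)
    (h : N * (q ^ a * A) ∣ q ^ b * (A * B)) (hN : r ∣ N) : r ∣ B := by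
  have h1 : N * A ∣ (q ^ b * B) * A :=
    (Dvd.intro (q ^ a) (by ring) : N * A ∣ N * (q ^ a * A)).trans (h.trans (by
      rw [mul_comm A B, mul_assoc]))
  have h2 := hN.trans (Nat.dvd_of_mul_dvd_mul_right (Nat.pos_of_ne_zero hA) h1)
  exact ((hr.dvd_mul.1 h2).resolve_left fun h => hq (hr.dvd_of_dvd_pow h))

section GLo

variable {F V : Type*} [Field F] [Fintype F] [AddCommGroup V] [Module F V] [FiniteDimensional F V]

/-- `∏_{j=1}^n (q^j - 1)`. -/
def glo (q n : ℕ) : ℕ := ∏ i ∈ Finset.range n, (q ^ (i + 1) - 1)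

theorem glo_ne_zero {q : ℕ} (hq : 1 < q) (n : ℕ) : glo q n ≠ 0 :=
  Finset.prod_ne_zero_iff.2 fun i _ => by
    have : 1 < q ^ (i + 1) := Nat.one_lt_pow (Nat.succ_ne_zero i) hq
    omega

theorem glo_add (q n k : ℕ) :
    glo q (n + k) = glo q n * ∏ i ∈ Finset.range k, (q ^ (n + i + 1) - 1) :=
  Finset.prod_range_add _ _ _

theorem card_linearEquiv : Nat.card (V ≃ₗ[F] V) =
    Fintype.card F ^ (finrank F V * (finrank F V - 1) / 2) * glo (Fintype.card F) (finrank F V) := by
  classical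
  rw [glo, ← CfsgLib.Classical.gl_card]
  exact (Nat.card_congr ((Matrix.GeneralLinearGroup.toLin' (Module.finBasis F V)).trans
    (LinearMap.GeneralLinearGroup.generalLinearEquiv F V)).toEquiv).symm

theorem finite_linearEquiv : Finite (V ≃ₗ[F] V) := by
  have : Finite V := Module.finite_of_finite F
  exact Finite.of_injective (fun g : V ≃ₗ[F] V => (g : V → V)) DFunLike.coe_injective

end GLo

section Ext

variable {F : Type*} [Field F] {σ : F →+* F} {V : Type*} [AddCommGroup V] [Module F V]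

/-- The automorphism acting by given automorphisms on two complementary subspaces. -/
noncomputable def sumEquiv {A B : Submodule F V} (h : IsCompl A B) :
    (A ≃ₗ[F] A) × (B ≃ₗ[F] B) →* (V ≃ₗ[F] V) where
  toFun g := (A.prodEquivOfIsCompl B h).symm.trans
    ((g.1.prodCongr g.2).trans (A.prodEquivOfIsCompl B h))
  map_one' := LinearEquiv.ext fun v => (A.prodEquivOfIsCompl B h).apply_symm_apply v
  map_mul' g g' := by ext v; simp

theorem sumEquiv_apply {A B : Submodule F V} (h : IsCompl A B) (g : (A ≃ₗ[F] A) × (B ≃ₗ[F] B))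
    (a : A) (b : B) : sumEquiv h g (a + b) = g.1 a + g.2 b := by
  have : (a + b : V) = A.prodEquivOfIsCompl B h (a, b) := by simp
  rw [this]
  change A.prodEquivOfIsCompl B h ((g.1.prodCongr g.2) ((A.prodEquivOfIsCompl B h).symm _)) = _
  rw [LinearEquiv.symm_apply_apply]; simp

theorem sumEquiv_left {A B : Submodule F V} (h : IsCompl A B) (g : (A ≃ₗ[F] A) × (B ≃ₗ[F] B))
    (a : A) : sumEquiv h g a = g.1 a := by simpa using sumEquiv_apply h g a 0

theorem sumEquiv_right {A B : Submodule F V} (h : IsCompl A B) (g : (A ≃ₗ[F] A) × (B ≃ₗ[F] B))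
    (b : B) : sumEquiv h g b = g.2 b := by simpa using sumEquiv_apply h g 0 b

theorem sumEquiv_injective {A B : Submodule F V} (h : IsCompl A B) :
    Function.Injective (sumEquiv h) := by
  intro g g' hg
  ext v
  · rw [← sumEquiv_left h, hg, sumEquiv_left]
  · rw [← sumEquiv_right h, hg, sumEquiv_right]

theorem exists_add_of_isCompl {A B : Submodule F V} (h : IsCompl A B) (v : V) :
    ∃ (a : A) (b : B), v = a + b := by
  obtain ⟨a, ha, b, hb, rfl⟩ := Submodule.mem_sup.1 (h.sup_eq_top ▸ Submodule.mem_top : v ∈ A ⊔ B)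
  exact ⟨⟨a, ha⟩, ⟨b, hb⟩, rfl⟩

theorem map_sumEquiv_left {A B : Submodule F V} (h : IsCompl A B)
    (g : (A ≃ₗ[F] A) × (B ≃ₗ[F] B)) : A.map (sumEquiv h g).toLinearMap = A := by
  apply le_antisymm
  · rintro _ ⟨a, ha, rfl⟩
    have := sumEquiv_left h g ⟨a, ha⟩
    rw [LinearEquiv.coe_coe, this]; exact Subtype.prop _
  · intro a ha
    refine ⟨g.1.symm ⟨a, ha⟩, Subtype.prop _, ?_⟩
    rw [LinearEquiv.coe_coe, sumEquiv_left, LinearEquiv.apply_symm_apply]

theorem map_sumEquiv_right {A B : Submodule F V} (h : IsCompl A B)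
    (g : (A ≃ₗ[F] A) × (B ≃ₗ[F] B)) : B.map (sumEquiv h g).toLinearMap = B := by
  apply le_antisymm
  · rintro _ ⟨a, ha, rfl⟩
    have := sumEquiv_right h g ⟨a, ha⟩
    rw [LinearEquiv.coe_coe, this]; exact Subtype.prop _
  · intro a ha
    refine ⟨g.2.symm ⟨a, ha⟩, Subtype.prop _, ?_⟩
    rw [LinearEquiv.coe_coe, sumEquiv_right, LinearEquiv.apply_symm_apply]

theorem map_eq_of_forall_eq {A : Submodule F V} {g : V →ₗ[F] V} (h : ∀ a ∈ A, g a = a) :
    A.map g = A := by
  apply le_antisymm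
  · rintro _ ⟨a, ha, rfl⟩; rw [h a ha]; exact ha
  · intro a ha; exact ⟨a, ha, h a ha⟩

theorem isIso_sumEquiv (P : PQ σ V) {A B : Submodule F V} (h : IsCompl A B) (hAB : B ≤ P.perp A)
    {g : (A ≃ₗ[F] A) × (B ≃ₗ[F] B)} (h1 : (P.restrict A).IsIso g.1)
    (h2 : (P.restrict B).IsIso g.2) : P.IsIso (sumEquiv h g) := by
  have o1 : ∀ (a : A) (b : B), P.B a b = 0 := fun a b => hAB b.2 a a.2
  have o2 : ∀ (a : A) (b : B), P.B b a = 0 := fun a b => P.B_eq_zero_comm.1 (o1 a b)
  refine ⟨fun x y => ?_, fun x => ?_⟩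
  · obtain ⟨a, b, rfl⟩ := exists_add_of_isCompl h x
    obtain ⟨a', b', rfl⟩ := exists_add_of_isCompl h y
    rw [sumEquiv_apply, sumEquiv_apply]
    have e1 := h1.B_eq a a'
    have e2 := h2.B_eq b b'
    rw [PQ.restrict_B, PQ.restrict_B] at e1 e2
    simp only [P.B_add_left, P.B_add_right, o1, o2, e1, e2]
  · obtain ⟨a, b, rfl⟩ := exists_add_of_isCompl h x
    rw [sumEquiv_apply]
    have e1 := h1.N_eq a
    have e2 := h2.N_eq b
    rw [PQ.restrict_N, PQ.restrict_N, PQ.restrict_Λ] at e1 e2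
    have e3 := P.N_add (g.1 a) (g.2 b)
    have e4 := P.N_add (a : V) b
    rw [o1] at e3 e4
    convert P.Λ.add_mem (P.Λ.add_mem (P.Λ.sub_mem e3 e4) e1) e2 using 1
    ring

/-- The isometry acting by given isometries on two complementary orthogonal subspaces. -/
noncomputable def sumIsom (P : PQ σ V) {A B : Submodule F V} (h : IsCompl A B)
    (hAB : B ≤ P.perp A) : (P.restrict A).isom × (P.restrict B).isom →* P.isom :=
  ((sumEquiv h).comp (((P.restrict A).isom.subtype).prodMap (P.restrict B).isom.subtype)).codRestrict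
    _ fun g => isIso_sumEquiv P h hAB g.1.2 g.2.2

theorem sumIsom_coe (P : PQ σ V) {A B : Submodule F V} (h : IsCompl A B)
    (hAB : B ≤ P.perp A) (g : (P.restrict A).isom × (P.restrict B).isom) :
    (sumIsom P h hAB g : V ≃ₗ[F] V) = sumEquiv h (g.1.1, g.2.1) := rfl

theorem sumIsom_injective (P : PQ σ V) {A B : Submodule F V} (h : IsCompl A B)
    (hAB : B ≤ P.perp A) : Function.Injective (sumIsom P h hAB) := by
  intro g g' hg
  have := sumEquiv_injective h (congrArg Subtype.val hg)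
  exact Prod.ext (Subtype.ext (congrArg Prod.fst this)) (Subtype.ext (congrArg Prod.snd this))

/-- Counting lemma for a family of subspaces permuted transitively by the isometry group. -/
theorem card_subspaces_mul_dvd [Finite F] [FiniteDimensional F V] (P : PQ σ V)
    (Φ : Submodule F V → Prop)
    (hΦ : ∀ g : V ≃ₗ[F] V, P.IsIso g → ∀ U, Φ U → Φ (U.map g.toLinearMap))
    (U₀ : Submodule F V) (h₀ : Φ U₀)
    (htr : ∀ U, Φ U → ∃ g : V ≃ₗ[F] V, P.IsIso g ∧ U₀.map g.toLinearMap = U)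
    {K : Type*} [Group K] (φ : K →* P.isom) (hφ : Function.Injective φ)
    (hfix : ∀ k, U₀.map (φ k : V ≃ₗ[F] V).toLinearMap = U₀) :
    Nat.card {U // Φ U} * Nat.card K ∣ Nat.card P.isom := by
  have := Fintype.ofFinite F
  have := finite_linearEquiv (F := F) (V := V)
  exact card_mul_dvd (fun (g : P.isom) U => U.map (g : V ≃ₗ[F] V).toLinearMap)
    (fun U => by simp [LinearEquiv.one_eq_refl])
    (fun g h U => by rw [← Submodule.map_comp]; rfl) Φ (fun g U => hΦ g g.2 U) U₀ h₀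
    (fun U hU => by obtain ⟨g, hg, h⟩ := htr U hU; exact ⟨⟨g, hg⟩, h⟩) φ hφ hfix

/-- A `p`-group of isometries preserving a totally singular subspace preserves a larger one,
when the number of singular vectors of the relevant quotient is divisible by `p`. -/
theorem exists_ts_succ [Finite F] [FiniteDimensional F V] (P : PQ σ V) {p : ℕ} [Fact p.Prime]
    (S : Subgroup P.isom) (hS : IsPGroup p S) {U : Submodule F V} (hU : P.TS U)
    (hinv : ∀ g ∈ S, U.map (g : V ≃ₗ[F] V).toLinearMap = U) {W : Submodule F V}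
    (hW : Disjoint U W) (hUW : U ⊔ W = P.perp U) (hp : p ∣ Nat.card {w : W // P.Sing w}) :
    ∃ U', P.TS U' ∧ U ≤ U' ∧ finrank F U' = finrank F U + 1 ∧
      ∀ g ∈ S, U'.map (g : V ≃ₗ[F] V).toLinearMap = U' := by
  have : Finite V := Module.finite_of_finite F
  let Φ : V ⧸ U → Prop := fun z => ∃ v ∈ P.perp U, P.Sing v ∧ U.mkQ v = z
  have hle : ∀ g : S, U ≤ U.comap ((g : P.isom) : V ≃ₗ[F] V).toLinearMap := fun g =>
    Submodule.map_le_iff_le_comap.1 (hinv g g.2).le
  have hcard : Nat.card {w : W // P.Sing w} = Nat.card {z // Φ z} := by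
    refine Nat.card_congr (Equiv.ofBijective (fun w => ⟨U.mkQ w.1,
      w.1, hUW ▸ (le_sup_right : W ≤ U ⊔ W) w.1.2, w.2, rfl⟩) ⟨?_, ?_⟩)
    · intro w w' h
      have h1 : U.mkQ w.1 = U.mkQ w'.1 := congrArg Subtype.val h
      rw [Submodule.mkQ_apply, Submodule.mkQ_apply, Submodule.Quotient.eq] at h1
      have := (Submodule.disjoint_def.1 hW) _ h1 (W.sub_mem w.1.2 w'.1.2)
      exact Subtype.ext (Subtype.ext (sub_eq_zero.1 this))
    · rintro ⟨_, v, hv, hs, rfl⟩
      have hv' := hv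
      rw [← hUW] at hv'
      obtain ⟨u, hu, w, hw, rfl⟩ := Submodule.mem_sup.1 hv'
      refine ⟨⟨⟨w, hw⟩, ?_⟩, Subtype.ext ?_⟩
      · have := ((hU.1 u hu).smul (-1)).add hs (by rw [P.B_smul_left, hv u hu, mul_zero])
        simpa using this
      · simp [hu]
  rw [hcard] at hp
  have : Finite (V ⧸ U) := Finite.of_surjective _ U.mkQ_surjective
  obtain ⟨z, ⟨v, hv, hs, rfl⟩, hne, hfix⟩ := exists_fixed_ne hS
    (fun (g : S) (z : V ⧸ U) => U.mapQ U _ (hle g) z)
    (fun z => by obtain ⟨v, rfl⟩ := U.mkQ_surjective z; rfl)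
    (fun g h z => by obtain ⟨v, rfl⟩ := U.mkQ_surjective z; rfl) Φ
    (by
      rintro g _ ⟨v, hv, hs, rfl⟩
      refine ⟨_, ?_, (g : P.isom).2.sing.2 hs, rfl⟩
      rw [← hinv g g.2, ← PQ.IsIso.map_perp (g : P.isom).2]
      exact ⟨v, hv, rfl⟩) hp 0 ⟨0, Submodule.zero_mem _, P.sing_zero, map_zero _⟩
    (fun g => map_zero _)
  have hvU : v ∉ U := fun h => hne (by simpa using h)
  refine ⟨U ⊔ Submodule.span F {v}, hU.sup (P.ts_span_singleton hs) (by simpa using hv),
    le_sup_left, ?_, fun g hg => ?_⟩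
  · have h1 := Submodule.finrank_sup_add_finrank_inf_eq U (Submodule.span F {v})
    rw [finrank_span_singleton (fun h : v = 0 => hvU (by rw [h]; exact U.zero_mem)),
      disjoint_iff.1 (Submodule.disjoint_span_singleton_of_notMem hvU), finrank_bot] at h1
    exact h1
  · apply Submodule.eq_of_le_of_finrank_eq
    · rw [Submodule.map_sup, hinv g hg, Submodule.map_span, Set.image_singleton]
      refine sup_le le_sup_left ?_
      rw [Submodule.span_singleton_le_iff_mem]
      have := hfix ⟨g, hg⟩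
      change U.mkQ _ = U.mkQ v at this
      rw [Submodule.mkQ_apply, Submodule.mkQ_apply, Submodule.Quotient.eq] at this
      have h2 := Submodule.add_mem_sup this (Submodule.mem_span_singleton_self v)
      rwa [sub_add_cancel] at h2
    · exact LinearEquiv.finrank_map_eq _ _

theorem exists_ts_ge [Finite F] [FiniteDimensional F V] (P : PQ σ V) {p : ℕ} [Fact p.Prime]
    (S : Subgroup P.isom) (hS : IsPGroup p S) (m : ℕ)
    (hp : ∀ U W : Submodule F V, P.TS U → finrank F U < m → Disjoint U W → U ⊔ W = P.perp U →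
      p ∣ Nat.card {w : W // P.Sing w}) {U : Submodule F V} (hU : P.TS U)
    (hm : finrank F U ≤ m) (hinv : ∀ g ∈ S, U.map (g : V ≃ₗ[F] V).toLinearMap = U) :
    ∃ U', P.TS U' ∧ U ≤ U' ∧ finrank F U' = m ∧
      ∀ g ∈ S, U'.map (g : V ≃ₗ[F] V).toLinearMap = U' := by
  obtain ⟨k, rfl⟩ := Nat.exists_eq_add_of_le hm
  induction k with
  | zero => exact ⟨U, hU, le_rfl, rfl, hinv⟩
  | succ k ih =>
    obtain ⟨U', h1, h2, h3, h4⟩ := ih (fun U W a b => hp U W a (by omega)) (by omega)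
    obtain ⟨W, hW⟩ := U'.exists_isCompl
    obtain ⟨U'', h5, h6, h7, h8⟩ := exists_ts_succ P S hS h1 h4 (W := W ⊓ P.perp U')
      (hW.disjoint.mono_right inf_le_left)
      (by rw [← sup_inf_assoc_of_le _ h1.2, hW.sup_eq_top, top_inf_eq])
      (hp _ _ h1 (by omega) (hW.disjoint.mono_right inf_le_left)
        (by rw [← sup_inf_assoc_of_le _ h1.2, hW.sup_eq_top, top_inf_eq]))
    exact ⟨U'', h5, h2.trans h6, by omega, h8⟩

/-- The number of totally singular `m`-subspaces is prime to the characteristic. -/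
theorem not_dvd_card_ts [Finite F] [FiniteDimensional F V] (P : PQ σ V) {p : ℕ} [Fact p.Prime]
    (m : ℕ)
    (hp : ∀ U W : Submodule F V, P.TS U → finrank F U < m → Disjoint U W → U ⊔ W = P.perp U →
      p ∣ Nat.card {w : W // P.Sing w})
    (htr : ∀ U W : Submodule F V, P.TS U → P.TS W → finrank F U = finrank F W →
      ∃ g : V ≃ₗ[F] V, P.IsIso g ∧ U.map g.toLinearMap = W) :
    ¬ p ∣ Nat.card {U : Submodule F V // finrank F U = m ∧ P.TS U} := by
  have := Fintype.ofFinite F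
  have := finite_linearEquiv (F := F) (V := V)
  refine not_dvd_card_of_fixed (fun (g : P.isom) U => U.map (g : V ≃ₗ[F] V).toLinearMap)
    (fun U => by simp [LinearEquiv.one_eq_refl])
    (fun g h U => by rw [← Submodule.map_comp]; rfl) _
    (fun g U h => ⟨by rw [LinearEquiv.finrank_map_eq, h.1], h.2.map g.2⟩)
    (fun U W hU hW => by
      obtain ⟨g, hg, h⟩ := htr U W hU.2 hW.2 (hU.1.trans hW.1.symm)
      exact ⟨⟨g, hg⟩, h⟩) fun S hS => ?_
  obtain ⟨U, h1, -, h3, h4⟩ := exists_ts_ge P S hS m hp P.ts_bot (by simp) (by simp)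
  exact ⟨U, ⟨h3, h1⟩, h4⟩

end Ext

end CfsgLib.Elusive
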